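import Groth.Agent.L19.EtTri.Basic
import Mathlib.FieldTheory.IntermediateField.Adjoin.Algebra

/-! # Composita with totally ramified extensions -/

set_option autoImplicit false
set_option linter.style.haveILetI false

universe u

open IsLocalRing

namespace Groth.L19.EtAS

open EtRam Groth.L19.EtTri

variable {B K L K₁ E : Type u} [CommRing B] [IsDomain B] [IsDiscreteValuationRing B] [Field K] [Field L]
  [Algebra B L] [IsFractionRing B L] [Algebra K L] [Field K₁] [Algebra K K₁] [Field E] [Algebra L E]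
  [Algebra K₁ E] [Algebra K E] [IsScalarTower K L E] [IsScalarTower K K₁ E]

/-- In a compositum with an extension `K₁/K` having an element `T` with `v T ^ [K₁ : K] = v π`,
the valuation ring of `L(K₁)` is discrete with uniformiser `T` and residues from `B`. -/
theorem compositum_facts {π : B} (hπ : Irreducible π) {e : ℕ} (he : 0 < e)
    (hdeg : Module.finrank K K₁ = e) (W : ValuationSubring E)
    (hW : Dominates B ((algebraMap L E).comp (algebraMap B L)) W) (T : K₁)
    (hT : W.valuation (algebraMap K₁ E T) ^ e = W.valuation (algebraMap L E (algebraMap B L π))) :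
    W.valuation (algebraMap K₁ E T) < 1 ∧ algebraMap K₁ E T ≠ 0 ∧
      (∀ x ∈ Algebra.adjoin L (Set.range (algebraMap K₁ E)), x ≠ 0 →
        ∃ m : ℤ, W.valuation x = W.valuation (algebraMap K₁ E T) ^ m) ∧
      (∀ x ∈ Algebra.adjoin L (Set.range (algebraMap K₁ E)), W.valuation x ≤ 1 →
        ∃ b : B, W.valuation (x - algebraMap L E (algebraMap B L b)) < 1) ∧
      LinearIndependent K (fun i : Fin e => T ^ (i : ℕ)) := by
  classical
  obtain ⟨hP0, hP1, hval, hB⟩ := dominates_facts W hW hπ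
  set τ := algebraMap K₁ E T with hτdef
  have hτ0 : τ ≠ 0 := fun h => hP0 ((map_eq_zero W.valuation).mp (by
    rw [← hT, h, map_zero, zero_pow he.ne']))
  have hτ1 : W.valuation τ < 1 := by
    by_contra h
    exact absurd (hT ▸ hP1) (not_lt.mpr (one_le_pow₀ (not_lt.mp h)))
  have hvalL : ∀ l : L, l ≠ 0 → ∃ k : ℤ,
      W.valuation (algebraMap L E l) = W.valuation τ ^ ((e : ℤ) * k) := fun l hl => by
    obtain ⟨k, w, -, hk⟩ := hval l hl
    exact ⟨k, by rw [hk, zpow_mul, zpow_natCast, hT]⟩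
  have hvalK : ∀ l : K, l ≠ 0 → ∃ k : ℤ,
      W.valuation (algebraMap K E l) = W.valuation τ ^ ((e : ℤ) * k) := fun l hl => by
    rw [IsScalarTower.algebraMap_apply K L E]
    exact hvalL _ (fun h => hl ((map_eq_zero (algebraMap K L)).mp h))
  have hliK : LinearIndependent K (fun i : Fin e => T ^ (i : ℕ)) := by
    refine LinearIndependent.of_comp (IsScalarTower.toAlgHom K K₁ E).toLinearMap ?_
    convert linearIndependent_low W τ hτ0 hτ1 hvalK using 1
    ext i
    exact map_pow (algebraMap K₁ E) T _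
  haveI : FiniteDimensional K K₁ := Module.finite_of_finrank_pos (hdeg ▸ he)
  haveI : Nonempty (Fin e) := ⟨⟨0, he⟩⟩
  have htopK := hliK.span_eq_top_of_card_eq_finrank (by rw [Fintype.card_fin, hdeg])
  set S : Subalgebra L E := Algebra.adjoin L (Set.range (algebraMap K₁ E)) with hS
  have hSspan : ∀ x ∈ S, ∃ c : Fin e → L, ∑ i, algebraMap L E (c i) * τ ^ (i : ℕ) = x := by
    intro x hx
    suffices h : x ∈ Submodule.span L (Set.range fun i : Fin e => τ ^ (i : ℕ)) by
      obtain ⟨c, hc⟩ := (Submodule.mem_span_range_iff_exists_fun L).mp h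
      exact ⟨c, by rw [← hc]; simp [Algebra.smul_def]⟩
    replace hx : x ∈ Subalgebra.toSubmodule S := hx
    rw [hS, Algebra.adjoin_eq_span, show (Submonoid.closure (Set.range (algebraMap K₁ E)) : Set E) =
      Set.range (algebraMap K₁ E) from le_antisymm (fun z hz => (Submonoid.closure_le.mpr (fun _ h => h) :
        Submonoid.closure (Set.range (algebraMap K₁ E)) ≤ MonoidHom.mrange (algebraMap K₁ E).toMonoidHom) hz)
        Submonoid.subset_closure] at hx
    refine Submodule.span_le.mpr ?_ hx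
    rintro _ ⟨y, rfl⟩
    obtain ⟨c, hc⟩ := (Submodule.mem_span_range_iff_exists_fun K).mp
      (htopK ▸ Submodule.mem_top : y ∈ Submodule.span K (Set.range fun i : Fin e => T ^ (i : ℕ)))
    rw [← hc, map_sum]
    refine Submodule.sum_mem _ fun i _ => ?_
    rw [Algebra.smul_def, map_mul, map_pow, ← IsScalarTower.algebraMap_apply K K₁ E,
      IsScalarTower.algebraMap_apply K L E, ← Algebra.smul_def]
    exact Submodule.smul_mem _ _ (Submodule.subset_span ⟨i, rfl⟩)
  refine ⟨hτ1, hτ0, fun x hx hx0 => ?_, fun x hx hxle => ?_, hliK⟩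
  · obtain ⟨c, rfl⟩ := hSspan x hx
    have hc : ∃ i, c i ≠ 0 := by
      by_contra h; push Not at h; exact hx0 (by simp [h])
    exact Groth.L05.TotRam.valuation_sum_eq W τ hτ0 hτ1 hvalL c hc
  · obtain ⟨c, rfl⟩ := hSspan x hx
    obtain ⟨h1, h2⟩ := valuation_sum_max W τ hτ0 hτ1 hvalL c
    have hall : ∀ i, W.valuation (algebraMap L E (c i) * τ ^ (i : ℕ)) ≤ 1 := by
      intro i
      by_cases hc : ∃ i, c i ≠ 0
      · obtain ⟨j, -, hsum, hmax⟩ := h2 hc
        exact (hmax i).trans (hsum ▸ hxle)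
      · push Not at hc; simp [hc]
    obtain ⟨b₀, hb₀⟩ := hB (c ⟨0, he⟩) (by simpa using hall ⟨0, he⟩)
    refine ⟨b₀, ?_⟩
    have hb₀' : algebraMap L E (algebraMap B L b₀) =
        algebraMap L E (c ⟨0, he⟩) * τ ^ ((⟨0, he⟩ : Fin e) : ℕ) := by simp [hb₀]
    rw [hb₀', ← Finset.sum_erase_eq_sub (Finset.mem_univ (⟨0, he⟩ : Fin e))]
    refine W.valuation.map_sum_lt one_ne_zero fun i hi => ?_
    by_cases hc : c i = 0
    · simp [hc]
    exact lt_of_le_of_ne (hall i) (h1 i hc fun h => (Finset.ne_of_mem_erase hi) (Fin.ext h))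

theorem adjoin_toSubalgebra [FiniteDimensional K K₁] :
    (IntermediateField.adjoin L (Set.range (algebraMap K₁ E))).toSubalgebra =
      Algebra.adjoin L (Set.range (algebraMap K₁ E)) :=
  IntermediateField.adjoin_toSubalgebra_of_isAlgebraic fun x hx => by
    obtain ⟨y, rfl⟩ := hx
    exact ((IsIntegral.of_finite K y).algebraMap.tower_top).isAlgebraic

/-- The valuation ring of `L(K₁)`. -/
theorem compositum_dvr {π : B} (hπ : Irreducible π) {e : ℕ} (he : 0 < e)
    (hdeg : Module.finrank K K₁ = e) (W : ValuationSubring E)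
    (hW : Dominates B ((algebraMap L E).comp (algebraMap B L)) W) (T : K₁)
    (hT : W.valuation (algebraMap K₁ E T) ^ e = W.valuation (algebraMap L E (algebraMap B L π))) :
    let L₁ := IntermediateField.adjoin L (Set.range (algebraMap K₁ E))
    let V₁ := W.comap (algebraMap L₁ E)
    IsDiscreteValuationRing V₁ ∧ (∃ τ₁ : V₁, ((τ₁ : L₁) : E) = algebraMap K₁ E T ∧ Irreducible τ₁) ∧
      ∀ x : V₁, ∃ b : B, W.valuation (((x : L₁) : E) - algebraMap L E (algebraMap B L b)) < 1 := by
  intro L₁ V₁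
  haveI : FiniteDimensional K K₁ := Module.finite_of_finrank_pos (hdeg ▸ he)
  obtain ⟨hτ1, hτ0, hval, hres, -⟩ := compositum_facts hπ he hdeg W hW T hT
  have hmem : ∀ x : L₁, (x : E) ∈ Algebra.adjoin L (Set.range (algebraMap K₁ E)) := fun x => by
    rw [← adjoin_toSubalgebra (K := K)]; exact x.2
  set v := W.valuation
  let tL : L₁ := ⟨algebraMap K₁ E T, IntermediateField.subset_adjoin L _ ⟨T, rfl⟩⟩
  let τ₁ : V₁ := ⟨tL, (W.valuation_le_one_iff _).mp hτ1.le⟩
  have hτnu : ¬ IsUnit τ₁ := fun h =>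
    absurd ((W.valuation_eq_one_iff (inclOfComap W (algebraMap L₁ E) τ₁)).mp (h.map _)) hτ1.ne
  have hirr : Irreducible τ₁ := by
    refine ⟨hτnu, fun a c hac => ?_⟩
    by_contra hcon
    push Not at hcon
    have hlt : ∀ d : V₁, ¬ IsUnit d → v ((d : L₁) : E) ≤ v (algebraMap K₁ E T) := by
      intro d hd
      by_cases hd0 : ((d : L₁) : E) = 0
      · rw [hd0, map_zero]; exact zero_le'
      obtain ⟨m, hm⟩ := hval _ (hmem _) hd0
      have hd1 : v ((d : L₁) : E) < 1 := (ValuationSubring.valuation_lt_one_iff W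
        (inclOfComap W (algebraMap L₁ E) d)).mp ((mem_maximalIdeal _).mpr fun h =>
          hd (isUnit_of_map_unit _ _ h))
      have hm1 : 1 ≤ m := by
        by_contra h
        rw [hm] at hd1
        exact absurd hd1 (not_lt.mpr (one_le_zpow_of_nonpos₀ (zero_lt_iff.mpr ((map_ne_zero _).mpr hτ0))
          hτ1.le (by omega)))
      rw [hm]
      calc v (algebraMap K₁ E T) ^ m ≤ v (algebraMap K₁ E T) ^ (1 : ℤ) :=
            zpow_le_zpow_right_of_le_one₀ (zero_lt_iff.mpr ((map_ne_zero _).mpr hτ0)) hτ1.le hm1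
        _ = _ := zpow_one _
    have h : v (algebraMap K₁ E T) ≤ v (algebraMap K₁ E T) * v (algebraMap K₁ E T) := by
      conv_lhs => rw [show algebraMap K₁ E T = ((a : L₁) : E) * ((c : L₁) : E) from
        congrArg (fun z : V₁ => ((z : L₁) : E)) hac, map_mul]
      exact mul_le_mul' (hlt a hcon.1) (hlt c hcon.2)
    have hpos : 0 < v (algebraMap K₁ E T) := zero_lt_iff.mpr ((map_ne_zero _).mpr hτ0)
    exact absurd h (not_le.mpr (mul_lt_of_lt_one_right hpos hτ1))
  refine ⟨?_, ⟨τ₁, rfl, hirr⟩, fun x => ?_⟩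
  · refine IsDiscreteValuationRing.ofHasUnitMulPowIrreducibleFactorization ⟨τ₁, hirr, fun {x} hx => ?_⟩
    have hx0 : ((x : L₁) : E) ≠ 0 := fun h => hx (Subtype.ext (Subtype.ext h))
    obtain ⟨m, hm⟩ := hval _ (hmem _) hx0
    have hx1 : v ((x : L₁) : E) ≤ 1 := (W.valuation_le_one_iff _).mpr x.2
    have hm0 : 0 ≤ m := by
      by_contra h
      rw [hm] at hx1
      exact absurd hx1 (not_le.mpr (one_lt_zpow_of_neg₀ (zero_lt_iff.mpr ((map_ne_zero _).mpr hτ0)) hτ1
        (by omega)))
    obtain ⟨n, rfl⟩ := Int.eq_ofNat_of_zero_le hm0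
    rw [zpow_natCast, ← map_pow] at hm
    have htn : tL ^ n ≠ 0 := pow_ne_zero _ fun h => hτ0 (congrArg Subtype.val h)
    have hv1 : v ((((x : L₁) / tL ^ n : L₁)) : E) = 1 := by
      rw [IntermediateField.coe_div, IntermediateField.coe_pow, map_div₀, hm, div_self]
      exact (map_ne_zero _).mpr (pow_ne_zero _ hτ0)
    let q : V₁ := ⟨(x : L₁) / tL ^ n, (W.valuation_le_one_iff _).mp hv1.le⟩
    have hqu : IsUnit q := by
      refine IsUnit.of_mul_eq_one ⟨((x : L₁) / tL ^ n)⁻¹, ?_⟩ (Subtype.ext (mul_inv_cancel₀ ?_))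
      · show ((((x : L₁) / tL ^ n)⁻¹ : L₁) : E) ∈ W
        rw [← W.valuation_le_one_iff, IntermediateField.coe_inv, map_inv₀]
        exact le_of_eq (by rw [show W.valuation ((((x : L₁) / tL ^ n : L₁)) : E) = 1 from hv1, inv_one])
      · exact div_ne_zero (fun h => hx0 (congrArg Subtype.val h)) htn
    refine ⟨n, hqu.unit, Subtype.ext ?_⟩
    show tL ^ n * ((x : L₁) / tL ^ n) = (x : L₁)
    rw [mul_div_cancel₀ _ htn]
  · exact hres _ (hmem _) ((W.valuation_le_one_iff _).mpr x.2)

/-- An element `T` with `v T ^ [K₁ : K] = v π` makes `K₁/K` totally ramified. -/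
theorem isTotallyRamified_of_pow {A : Type u} [CommRing A] [IsDomain A] [IsDiscreteValuationRing A]
    {K : Type u} [Field K] [Algebra A K] [IsFractionRing A K] {K₁ : Type u} [Field K₁] [Algebra K K₁]
    {π : A} (hπ : Irreducible π) {e : ℕ} (he : 0 < e) (hdeg : Module.finrank K K₁ = e) (T : K₁)
    (hT : ∀ V : ValuationSubring K₁, Dominates A ((algebraMap K K₁).comp (algebraMap A K)) V →
      V.valuation T ^ e = V.valuation (algebraMap K K₁ (algebraMap A K π))) :
    IsTotallyRamified A ((algebraMap K K₁).comp (algebraMap A K)) := by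
  classical
  set g := (algebraMap K K₁).comp (algebraMap A K) with hg
  haveI : FiniteDimensional K K₁ := Module.finite_of_finrank_pos (hdeg ▸ he)
  haveI : Nonempty (Fin e) := ⟨⟨0, he⟩⟩
  refine ⟨Groth.L05.TotRam.exists_dominating A g
      ((algebraMap K K₁).injective.comp (IsFractionRing.injective A K)), ?_, ?_⟩
  · suffices h : ∀ V V' : ValuationSubring K₁, Dominates A g V → Dominates A g V' → ∀ x ∈ V, x ∈ V' from
      fun V V' hV hV' => le_antisymm (h V V' hV hV') (h V' V hV' hV)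
    intro V V' hV hV' x hx
    obtain ⟨hτ1, hτ0, -, -, hli⟩ := compositum_facts (B := A) (K := K) (L := K) (E := K₁) hπ he hdeg V hV T (hT V hV)
    obtain ⟨hτ1', -, -, -, -⟩ := compositum_facts (B := A) (K := K) (L := K) (E := K₁) hπ he hdeg V' hV' T (hT V' hV')
    simp only [Algebra.algebraMap_self, RingHom.id_apply] at hτ1 hτ0 hτ1'
    obtain ⟨-, -, hval, -⟩ := dominates_facts V hV hπ
    have hvalK : ∀ l : K, l ≠ 0 → ∃ k : ℤ,
        V.valuation (algebraMap K K₁ l) = V.valuation T ^ ((e : ℤ) * k) := fun l hl => by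
      obtain ⟨k, w, -, hk⟩ := hval l hl
      exact ⟨k, by rw [hk, zpow_mul, zpow_natCast, hT V hV]⟩
    have htop := hli.span_eq_top_of_card_eq_finrank (by rw [Fintype.card_fin, hdeg])
    obtain ⟨c, hc⟩ := (Submodule.mem_span_range_iff_exists_fun K).mp
      (htop ▸ Submodule.mem_top : x ∈ Submodule.span K (Set.range fun i : Fin e => T ^ (i : ℕ)))
    simp only [Algebra.smul_def] at hc
    rw [← hc]
    refine sum_mem fun i _ => ?_
    by_cases hci : c i = 0
    · rw [hci, map_zero, zero_mul]; exact zero_mem _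
    obtain ⟨j, -, hsum, hmax⟩ := (valuation_sum_max V T hτ0 hτ1 hvalK c).2 ⟨i, hci⟩
    have hle : V.valuation (algebraMap K K₁ (c i) * T ^ (i : ℕ)) ≤ 1 :=
      (hmax i).trans (by rw [← hsum, hc]; exact (V.valuation_le_one_iff _).mpr hx)
    obtain ⟨k, w, hw, hk⟩ := hval (c i) hci
    have hk' : V'.valuation (algebraMap K K₁ (c i)) = V'.valuation T ^ ((e : ℤ) * k) := by
      rw [hw, map_mul, map_mul, map_zpow₀, map_zpow₀, zpow_mul, zpow_natCast, hT V' hV',
        show V'.valuation (algebraMap K K₁ (algebraMap A K (w : A))) = 1 from valuation_units V' g hV'.1 w,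
        one_mul]
    have hk2 : V.valuation (algebraMap K K₁ (c i)) = V.valuation T ^ ((e : ℤ) * k) := by
      rw [hk, zpow_mul, zpow_natCast, hT V hV]
    rw [map_mul, hk2, map_pow, ← zpow_natCast, ← zpow_add₀ ((map_ne_zero _).mpr hτ0)] at hle
    have hnn : 0 ≤ (e : ℤ) * k + (i : ℤ) := by
      by_contra h
      exact absurd hle (not_le.mpr (one_lt_zpow_of_neg₀ (zero_lt_iff.mpr ((map_ne_zero _).mpr hτ0)) hτ1 (by omega)))
    rw [← V'.valuation_le_one_iff, map_mul, hk', map_pow, ← zpow_natCast, ← zpow_add₀ ((map_ne_zero _).mpr hτ0)]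
    exact zpow_le_one₀ (zero_lt_iff.mpr ((map_ne_zero _).mpr hτ0)) hτ1'.le hnn
  · intro V hV q
    obtain ⟨⟨x, hx⟩, rfl⟩ := residue_surjective q
    obtain ⟨-, -, -, hres, -⟩ := compositum_facts (B := A) (K := K) (L := K) (E := K₁) hπ he hdeg V hV T (hT V hV)
    obtain ⟨b, hb⟩ := hres x (Algebra.subset_adjoin ⟨x, rfl⟩) ((V.valuation_le_one_iff _).mpr hx)
    refine ⟨b, ?_⟩
    rw [eq_comm, ← sub_eq_zero, ← map_sub, residue_eq_zero_iff, ValuationSubring.valuation_lt_one_iff]
    exact hb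

end Groth.L19.EtAS
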