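import Groth.Agent.L19.EtAS.Main
import Groth.Agent.L05.PrimeDegree.ArtinSchreier
import Mathlib.RingTheory.Trace.Basic
import Mathlib.FieldTheory.Galois.Basic

/-! # The auxiliary totally ramified extension -/

set_option autoImplicit false
set_option linter.style.haveILetI false

universe u

open IsLocalRing

namespace Groth.L19.EtAS

open EtRam Groth.L19.EtTri

/-- A cyclic extension of degree `p` in characteristic `p` is generated by an Artin-Schreier root. -/
theorem exists_generator {p : ℕ} (hp : p.Prime) {L M : Type u} [Field L] [Field M] [Algebra L M]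
    [IsGalois L M] [CharP L p] (hdeg : Module.finrank L M = p) :
    ∃ (z : M) (f : L), IntermediateField.adjoin L {z} = ⊤ ∧ z ^ p - z = algebraMap L M f := by
  classical
  haveI := Fact.mk hp
  haveI : FiniteDimensional L M := Module.finite_of_finrank_pos (hdeg ▸ hp.pos)
  haveI : CharP M p := charP_of_injective_algebraMap (algebraMap L M).injective p
  have hcard : Nat.card Gal(M/L) = p := by rw [IsGalois.card_aut_eq_finrank, hdeg]
  haveI : Finite Gal(M/L) := Nat.finite_of_card_ne_zero (hcard ▸ hp.ne_zero)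
  haveI : Fintype Gal(M/L) := Fintype.ofFinite _
  haveI : Nontrivial Gal(M/L) := Finite.one_lt_card_iff_nontrivial.mp (hcard ▸ hp.one_lt)
  obtain ⟨σ, hσ⟩ := exists_ne (1 : Gal(M/L))
  have hord : orderOf σ = p := by
    rcases (Nat.dvd_prime hp).mp (hcard ▸ orderOf_dvd_natCard σ) with h | h
    · exact absurd (orderOf_eq_one_iff.mp h) hσ
    · exact h
  have huniv : (Finset.range p).image (σ ^ ·) = Finset.univ := by
    refine Finset.eq_univ_of_card _ ?_
    rw [Finset.card_image_of_injOn (by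
      intro a ha b hb h
      exact pow_injOn_Iio_orderOf (by simpa [hord] using ha) (by simpa [hord] using hb) h),
      Finset.card_range, ← Nat.card_eq_fintype_card, hcard]
  obtain ⟨θ, hθ⟩ := Algebra.trace_surjective L M 1
  have hsum : ∑ i ∈ Finset.range p, (σ ^ i) θ = 1 := by
    rw [← Finset.sum_image (f := fun τ : Gal(M/L) => τ θ) (g := (σ ^ ·)) (s := Finset.range p) (by
        intro a ha b hb h
        exact pow_injOn_Iio_orderOf (by simpa [hord] using ha) (by simpa [hord] using hb) h),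
      huniv]
    refine Eq.trans ?_ ((congrArg (algebraMap L M) hθ).trans (map_one _))
    rw [trace_eq_sum_automorphisms]
    exact Finset.sum_congr (Finset.ext fun x => by simp) fun _ _ => rfl
  have hσp : σ ^ p = 1 := by rw [← hord]; exact pow_orderOf_eq_one σ
  have hsum' : ∑ i ∈ Finset.range p, (σ ^ (i + 1)) θ = 1 := by
    have h := Finset.sum_range_succ' (fun i => (σ ^ i) θ) p
    rw [Finset.sum_range_succ, hsum, pow_zero, hσp] at h
    exact (add_right_cancel h).symm
  set z : M := ∑ i ∈ Finset.range p, (i : M) * (σ ^ i) θ with hz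
  have hσz : σ z = z - 1 := by
    have h := Finset.sum_range_succ' (fun i => (i : M) * (σ ^ i) θ) p
    rw [Finset.sum_range_succ, CharP.cast_eq_zero, zero_mul, add_zero, Nat.cast_zero, zero_mul, add_zero] at h
    rw [eq_sub_iff_add_eq, hz]
    conv_rhs => rw [h]
    conv_lhs => arg 2; rw [← hsum']
    rw [map_sum, ← Finset.sum_add_distrib]
    refine Finset.sum_congr rfl fun i _ => ?_
    rw [map_mul, map_natCast, pow_succ', AlgEquiv.mul_apply, Nat.cast_succ]
    ring
  have hfix : ∀ τ : Gal(M/L), τ (z ^ p - z) = z ^ p - z := by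
    intro τ
    obtain ⟨i, -, rfl⟩ := Finset.mem_image.mp (huniv ▸ Finset.mem_univ τ : τ ∈ (Finset.range p).image (σ ^ ·))
    induction i with
    | zero => rw [pow_zero]; rfl
    | succ i ih =>
      rw [pow_succ, AlgEquiv.mul_apply, map_sub σ, map_pow σ, hσz, sub_pow_char, one_pow,
        sub_sub_sub_cancel_right, ih]
  obtain ⟨f, hf⟩ := (IsGalois.mem_range_algebraMap_iff_fixed (z ^ p - z)).mpr hfix
  refine ⟨z, f, ?_, hf.symm⟩
  rw [← IntermediateField.finrank_eq_one_iff_eq_top]
  have hmul := Module.finrank_mul_finrank L (IntermediateField.adjoin L {z}) M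
  rw [hdeg] at hmul
  rcases (Nat.dvd_prime hp).mp ⟨_, hmul.symm⟩ with h | h
  · exfalso
    have hbot := IntermediateField.finrank_eq_one_iff.mp h
    obtain ⟨w, hw⟩ := IntermediateField.mem_bot.mp (hbot ▸ IntermediateField.mem_adjoin_simple_self L z)
    rw [← hw, AlgEquiv.commutes, eq_sub_iff_add_eq, add_eq_left] at hσz
    exact one_ne_zero hσz
  · rw [h] at hmul
    exact mul_left_cancel₀ hp.ne_zero (hmul.trans (mul_one p).symm)

theorem mem_of_integral {A E : Type u} [CommRing A] [Field E] [Algebra A E] (W : ValuationSubring E)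
    (hA : ∀ a, algebraMap A E a ∈ W) {x : E} (hx : IsIntegral A x) : x ∈ W := by
  letI : Algebra A W := (RingHom.codRestrict (algebraMap A E) W.toSubring hA).toAlgebra
  haveI : IsScalarTower A W E := IsScalarTower.of_algebraMap_eq fun _ => rfl
  obtain ⟨y, hy⟩ := IsIntegrallyClosedIn.isIntegral_iff.mp (hx.tower_top (A := W))
  exact hy ▸ y.2

/-- The totally ramified extension absorbing the constant `a`. -/
theorem exists_ext {p : ℕ} (hp : p.Prime) {A K : Type u} [CommRing A] [IsDomain A]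
    [IsDiscreteValuationRing A] [Field K] [Algebra A K] [IsFractionRing A K] [CharP K p]
    (hperf : ∀ x : ResidueField A, ∃ y, y ^ p = x) {π : A} (hπ : Irreducible π) (a : K)
    {Kt : Type u} [Field Kt] [Algebra K Kt] [Algebra A Kt] [IsScalarTower A K Kt] (k n : ℕ)
    [Algebra.IsSeparable K Kt] (htr : IsTotallyRamified A (algebraMap A Kt))
    (hdeg : Module.finrank K Kt = p ^ k) (t β : Kt) (hn : 1 ≤ n) (hβ : IsIntegral A β)
    (ht : t ^ p ^ k = algebraMap A Kt π + algebraMap A Kt π ^ (n + 1) * β) :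
    ∃ (K₁ : Type u) (_ : Field K₁) (_ : Algebra K K₁) (T t₁ β₁ h : K₁) (c : ℕ), 0 < c ∧
      Module.finrank K K₁ = p ^ k * c ∧ Algebra.IsSeparable K K₁ ∧
      t₁ ^ p ^ k = algebraMap K K₁ (algebraMap A K π) + algebraMap K K₁ (algebraMap A K π) ^ (n + 1) * β₁ ∧
      ∀ V : ValuationSubring K₁, Dominates A ((algebraMap K K₁).comp (algebraMap A K)) V →
        β₁ ∈ V ∧ algebraMap K K₁ a - (h ^ p - h) ∈ V ∧
        V.valuation T ^ (p ^ k * c) = V.valuation (algebraMap K K₁ (algebraMap A K π)) := by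
  classical
  haveI := Fact.mk hp
  haveI : CharP Kt p := charP_of_injective_algebraMap (algebraMap K Kt).injective p
  have hgA : (algebraMap K Kt).comp (algebraMap A K) = algebraMap A Kt := (IsScalarTower.algebraMap_eq A K Kt).symm
  have hVt : ∀ V : ValuationSubring Kt, Dominates A (algebraMap A Kt) V →
      β ∈ V ∧ V.valuation t ^ p ^ k = V.valuation (algebraMap A Kt π) := by
    intro V hV
    have hβV := mem_of_integral V hV.1 hβ
    refine ⟨hβV, ?_⟩
    rw [← map_pow, ht]
    refine V.valuation.map_add_eq_of_lt_left ?_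
    obtain ⟨n', rfl⟩ : ∃ n', n = n' + 1 := ⟨n - 1, by omega⟩
    have h1 := hV.2 π ((mem_maximalIdeal _).mpr hπ.not_isUnit)
    have h0 : V.valuation (algebraMap A Kt π) ≠ 0 := (map_ne_zero _).mpr (by
      rw [← hgA, RingHom.comp_apply, Ne, map_eq_zero, map_eq_zero_iff _ (IsFractionRing.injective A K)]
      exact hπ.ne_zero)
    rw [map_mul, map_pow, pow_succ', mul_assoc]
    refine mul_lt_of_lt_one_right (zero_lt_iff.mpr h0) ?_
    exact lt_of_le_of_lt (mul_le_of_le_one_right' ((V.valuation_le_one_iff _).mpr hβV))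
      (pow_lt_one₀ zero_le' h1 (by omega))
  obtain ⟨⟨W₀, hW₀⟩, huniq, -⟩ := htr
  have hW₀' : Dominates A ((algebraMap Kt Kt).comp (algebraMap A Kt)) W₀ := hW₀
  have he : 0 < p ^ k := pow_pos hp.pos k
  have hW₀'' : Dominates A ((algebraMap K Kt).comp (algebraMap A K)) W₀ := by rw [hgA]; exact hW₀
  have hπt : W₀.valuation (algebraMap Kt Kt t) ^ p ^ k =
      W₀.valuation (algebraMap K Kt (algebraMap A K π)) := by
    rw [← IsScalarTower.algebraMap_apply]; exact (hVt W₀ hW₀).2
  obtain ⟨hdvr, ⟨τ₁, hτ₁, hτirr⟩, hres⟩ :=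
    compositum_dvr (B := A) (K := K) (L := K) (E := Kt) (K₁ := Kt) hπ he hdeg W₀ hW₀'' t hπt
  let Lt := IntermediateField.adjoin K (Set.range (algebraMap Kt Kt))
  haveI := hdvr
  haveI : CharP Lt p := (algebraMap Lt Kt).charP (algebraMap Lt Kt).injective p
  have hperf' : ∀ x : ResidueField (W₀.comap (algebraMap Lt Kt)), ∃ y, y ^ p = x := by
    intro x
    obtain ⟨v, rfl⟩ := residue_surjective x
    obtain ⟨b, hb⟩ := hres v
    obtain ⟨w', hw'⟩ := hperf (residue A b)
    obtain ⟨w, rfl⟩ := residue_surjective w'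
    have hwV : algebraMap K Lt (algebraMap A K w) ∈ W₀.comap (algebraMap Lt Kt) := hW₀''.1 w
    refine ⟨residue _ ⟨_, hwV⟩, ?_⟩
    rw [← map_pow, ← sub_eq_zero, ← map_sub, residue_eq_zero_iff, ValuationSubring.valuation_lt_one_iff]
    refine comap_valuation_lt_one (algebraMap Lt Kt) W₀ ?_
    show W₀.valuation (algebraMap K Kt (algebraMap A K w) ^ p - ((v : Lt) : Kt)) < 1
    have h1 : W₀.valuation (algebraMap K Kt (algebraMap A K (w ^ p - b))) < 1 :=
      hW₀''.2 _ ((residue_eq_zero_iff _).mp (by rw [map_sub, map_pow, hw', sub_self]))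
    have h2 := hb
    rw [Valuation.map_sub_swap] at h2
    have := W₀.valuation.map_add_lt h1 h2
    rwa [map_sub, map_sub, map_pow, map_pow, sub_add_sub_cancel] at this
  obtain ⟨N, c₀, hN⟩ := exists_mul_pow_mem hτirr (algebraMap K Lt a)
  obtain ⟨hL, hcases⟩ := exists_reduced hp hperf' hτirr N _ c₀ hN
  rcases hcases with ⟨r, hr⟩ | ⟨l, u, hl, hlp, hu⟩
  · refine ⟨Kt, inferInstance, inferInstance, t, t, β, (hL : Kt), 1, one_pos, by rw [mul_one]; exact hdeg,
      inferInstance, by rw [← IsScalarTower.algebraMap_apply]; exact ht, fun V hV => ?_⟩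
    rw [hgA] at hV
    obtain rfl := huniq V W₀ hV hW₀
    refine ⟨(hVt _ hV).1, ?_, by rw [mul_one, ← IsScalarTower.algebraMap_apply]; exact (hVt _ hV).2⟩
    have h1 : ((algebraMap K Lt a - (hL ^ p - hL) : Lt) : Kt) ∈ V := by rw [← hr]; exact r.2
    exact h1
  -- the ramified case
  set ξ : Kt := ((algebraMap K Lt a - (hL ^ p - hL) : Lt) : Kt) with hξdef
  have hξu : ξ * t ^ l = ((((u : W₀.comap (algebraMap Lt Kt)) : Lt)) : Kt) := by
    have h1 := congrArg (fun w : Lt => (w : Kt)) hu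
    simp only [IntermediateField.coe_mul, IntermediateField.coe_pow] at h1
    rw [show t = ((τ₁ : Lt) : Kt) from hτ₁.symm]
    exact h1
  have hu1 : W₀.valuation ((((u : W₀.comap (algebraMap Lt Kt)) : Lt)) : Kt) = 1 :=
    (W₀.valuation_eq_one_iff (inclOfComap W₀ (algebraMap Lt Kt) u)).mp (u.isUnit.map _)
  let Ω := AlgebraicClosure Kt
  obtain ⟨z, hz⟩ : ∃ z : Ω, z ^ p - z = algebraMap Kt Ω ξ := by
    obtain ⟨z, hz⟩ := IsAlgClosed.exists_root
      ((Polynomial.X : Polynomial Ω) ^ p - Polynomial.X - Polynomial.C (algebraMap Kt Ω ξ)) (by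
        obtain ⟨hm, hd⟩ := Groth.L05.PrimeDegree.monic_as Ω hp.one_lt (algebraMap Kt Ω ξ)
        rw [Polynomial.degree_eq_natDegree hm.ne_zero, hd]
        exact_mod_cast hp.ne_zero)
    exact ⟨z, by simpa [sub_eq_zero] using hz⟩
  set K₁ := IntermediateField.adjoin Kt ({z} : Set Ω)
  let z₁ : K₁ := ⟨z, IntermediateField.mem_adjoin_simple_self Kt z⟩
  have hz₁ : z₁ ^ p - z₁ = algebraMap Kt K₁ ξ := Subtype.ext hz
  have hgen₁ : IntermediateField.adjoin Kt ({z₁} : Set K₁) = ⊤ := by
    apply IntermediateField.lift_injective K₁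
    rw [IntermediateField.lift_adjoin_simple, IntermediateField.lift_top]
  obtain ⟨hgal, hfin⟩ := Groth.L05.PrimeDegree.as_galois
    (K := Kt) (L := K₁) hp hgen₁ hz₁
  haveI := hgal
  -- valuations
  obtain ⟨ht1, ht0, hval, -, -⟩ :=
    compositum_facts (B := A) (K := K) (L := K) (E := Kt) (K₁ := Kt) hπ he hdeg W₀ hW₀'' t hπt
  simp only [Algebra.algebraMap_self, RingHom.id_apply] at ht1 ht0 hval
  have hnot : z₁ ∉ Set.range (algebraMap Kt K₁) := by
    rintro ⟨w, hw⟩
    rw [← hw, ← map_pow, ← map_sub] at hz₁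
    have hwξ : w ^ p - w = ξ := (algebraMap Kt K₁).injective hz₁
    have hmul : (w ^ p - w) * t ^ l = ((((u : W₀.comap (algebraMap Lt Kt)) : Lt)) : Kt) := by rw [hwξ, hξu]
    have hv := congrArg W₀.valuation hmul
    rw [map_mul, map_pow, hu1] at hv
    have htl : W₀.valuation t ^ l < 1 := pow_lt_one₀ zero_le' ht1 hl.ne'
    have hgt : 1 < W₀.valuation w := by
      by_contra h
      have hwV : w ∈ W₀ := (W₀.valuation_le_one_iff _).mp (not_lt.mp h)
      exact hv.not_lt (lt_of_le_of_lt (mul_le_of_le_one_left'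
        ((W₀.valuation_le_one_iff _).mpr (sub_mem (pow_mem hwV p) hwV))) htl)
    have hw0 : w ≠ 0 := fun h => by rw [h, map_zero] at hgt; exact not_lt.mpr zero_le' hgt
    have hlt : W₀.valuation w < W₀.valuation (w ^ p) := by
      rw [map_pow]; exact lt_self_pow₀ hgt hp.one_lt
    rw [Valuation.map_sub_eq_of_lt_left _ hlt, map_pow] at hv
    obtain ⟨m, hm⟩ := hval w (Algebra.subset_adjoin ⟨w, rfl⟩) hw0
    rw [hm, ← zpow_natCast, ← zpow_mul, ← zpow_natCast _ l,
      ← zpow_add₀ ((map_ne_zero _).mpr ht0), ← zpow_zero (W₀.valuation t)] at hv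
    have h := zpow_right_injective₀ (zero_lt_iff.mpr ((map_ne_zero _).mpr ht0)) ht1.ne hv
    refine hlp (Int.natCast_dvd_natCast.mp ⟨-m, by linarith⟩)
  have hfin' : Module.finrank Kt K₁ = p := by
    rcases hfin with h | h
    · exfalso
      exact hnot (Algebra.mem_bot.mp ((Subalgebra.bot_eq_top_of_finrank_eq_one h).symm ▸ Algebra.mem_top :
        z₁ ∈ (⊥ : Subalgebra Kt K₁)))
    · exact h
  obtain ⟨α, γ, hαγ⟩ : ∃ α γ : ℤ, (p : ℤ) * γ - (l : ℤ) * α = 1 := by
    obtain ⟨u', v', huv⟩ := Int.isCoprime_iff_gcd_eq_one.mpr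
      (show Int.gcd (p : ℤ) (l : ℤ) = 1 by rw [Int.gcd_natCast_natCast]; exact hp.coprime_iff_not_dvd.mpr hlp)
    exact ⟨-v', u', by linarith⟩
  refine ⟨K₁, inferInstance, inferInstance, z₁ ^ α * algebraMap Kt K₁ t ^ γ, algebraMap Kt K₁ t,
    algebraMap Kt K₁ β, algebraMap Kt K₁ hL + z₁, p, hp.pos, ?_, Algebra.IsSeparable.trans K Kt K₁, ?_,
    fun V hV => ?_⟩
  · rw [← Module.finrank_mul_finrank K Kt K₁, hdeg, hfin']
  · rw [← map_pow, ht, IsScalarTower.algebraMap_apply K Kt K₁, ← IsScalarTower.algebraMap_apply A K Kt,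
      map_add, map_mul, map_pow]
  have hcomp : (algebraMap K K₁).comp (algebraMap A K) = (algebraMap Kt K₁).comp (algebraMap A Kt) := by
    rw [← hgA, ← RingHom.comp_assoc, ← IsScalarTower.algebraMap_eq K Kt K₁]
  rw [hcomp] at hV
  have hVc := dominates_comap (algebraMap Kt K₁) (algebraMap A Kt) V hV
  have hW : V.comap (algebraMap Kt K₁) = W₀ := huniq _ _ hVc hW₀
  refine ⟨(show β ∈ V.comap (algebraMap Kt K₁) from hW.symm ▸ (hVt W₀ hW₀).1), ?_, ?_⟩
  · have h1 : algebraMap K K₁ a - ((algebraMap Kt K₁ hL + z₁) ^ p - (algebraMap Kt K₁ hL + z₁)) = 0 := by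
      rw [add_pow_char]
      have h2 : algebraMap K K₁ a - (algebraMap Kt K₁ hL ^ p - algebraMap Kt K₁ hL) = algebraMap Kt K₁ ξ := by
        rw [show ξ = algebraMap K Kt a - ((hL : Kt) ^ p - (hL : Kt)) from rfl,
          map_sub, map_sub, map_pow, IsScalarTower.algebraMap_apply K Kt K₁]
      linear_combination h2 - hz₁
    rw [h1]
    exact zero_mem V
  · have hvu : V.valuation (algebraMap Kt K₁ ((((u : W₀.comap (algebraMap Lt Kt)) : Lt)) : Kt)) = 1 := by
      rw [← map_one V.valuation, ← map_one (algebraMap Kt K₁)]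
      refine valuation_eq_of_comap (algebraMap Kt K₁) V ?_
      rw [map_one, hW]; exact hu1
    have htV : V.valuation (algebraMap Kt K₁ t) < 1 := by
      by_contra h
      have h' : V.valuation (algebraMap Kt K₁ 1) ≤ V.valuation (algebraMap Kt K₁ t) := by
        rw [map_one, map_one]; exact not_lt.mp h
      have h1 := hV.2 π ((mem_maximalIdeal _).mpr hπ.not_isUnit)
      rw [RingHom.comp_apply] at h1
      have h2 : V.valuation (algebraMap Kt K₁ (t ^ p ^ k)) = V.valuation (algebraMap Kt K₁ (algebraMap A Kt π)) := by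
        refine valuation_eq_of_comap (algebraMap Kt K₁) V ?_
        rw [hW, map_pow]; exact (hVt W₀ hW₀).2
      rw [← h2, map_pow, map_pow] at h1
      exact absurd h1 (not_lt.mpr (one_le_pow₀ (not_lt.mp h)))
    have hπV : V.valuation (algebraMap Kt K₁ t) ^ p ^ k = V.valuation (algebraMap K K₁ (algebraMap A K π)) := by
      rw [← map_pow, ← map_pow, IsScalarTower.algebraMap_apply K Kt K₁, ← IsScalarTower.algebraMap_apply A K Kt]
      refine valuation_eq_of_comap (algebraMap Kt K₁) V ?_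
      rw [hW, map_pow]; exact (hVt W₀ hW₀).2
    have htl : V.valuation (algebraMap Kt K₁ t) ^ l < 1 := pow_lt_one₀ zero_le' htV hl.ne'
    have hzl : V.valuation z₁ ^ p * V.valuation (algebraMap Kt K₁ t) ^ l = 1 := by
      have hmul : (z₁ ^ p - z₁) * algebraMap Kt K₁ t ^ l =
          algebraMap Kt K₁ ((((u : W₀.comap (algebraMap Lt Kt)) : Lt)) : Kt) := by
        rw [hz₁, ← map_pow, ← map_mul, hξu]
      have hv := congrArg V.valuation hmul
      rw [map_mul, map_pow, hvu] at hv
      have hgt : 1 < V.valuation z₁ := by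
        by_contra h
        have hzV : z₁ ∈ V := (V.valuation_le_one_iff _).mp (not_lt.mp h)
        exact hv.not_lt (lt_of_le_of_lt (mul_le_of_le_one_left'
          ((V.valuation_le_one_iff _).mpr (sub_mem (pow_mem hzV p) hzV))) htl)
      have hlt : V.valuation z₁ < V.valuation (z₁ ^ p) := by
        rw [map_pow]; exact lt_self_pow₀ hgt hp.one_lt
      rwa [Valuation.map_sub_eq_of_lt_left _ hlt, map_pow] at hv
    have ht0' : V.valuation (algebraMap Kt K₁ t) ≠ 0 :=
      (map_ne_zero _).mpr ((map_ne_zero _).mpr ht0)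
    have hT : V.valuation (z₁ ^ α * algebraMap Kt K₁ t ^ γ) ^ p = V.valuation (algebraMap Kt K₁ t) := by
      rw [map_mul, map_zpow₀, map_zpow₀, mul_pow, ← zpow_natCast, ← zpow_natCast (_ ^ γ), ← zpow_mul, ← zpow_mul,
        mul_comm α, zpow_mul, zpow_natCast, eq_inv_of_mul_eq_one_left hzl, ← zpow_natCast _ l, inv_zpow,
        ← zpow_mul, ← zpow_neg, ← zpow_add₀ ht0']
      conv_rhs => rw [← zpow_one (V.valuation (algebraMap Kt K₁ t))]
      congr 1
      linarith
    rw [mul_comm (p ^ k), pow_mul, hT, hπV]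

end Groth.L19.EtAS
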