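import Groth.Agent.L19.EtTri.Basic
import Mathlib.Algebra.CharP.Lemmas

/-! # Normal forms modulo `x ↦ x ^ p - x` -/

set_option autoImplicit false
set_option linter.style.haveILetI false

universe u

open IsLocalRing

namespace Groth.L19.EtAS

/-- Elements with no pole above `N` are a constant from `K`, terms with coefficients `s ^ p ^ n`, a coboundary
and an integral element. -/
theorem exists_normal_form {p : ℕ} (hp : p.Prime) {A B K L : Type u} [CommRing A] [CommRing B] [IsDomain B]
    [IsDiscreteValuationRing B] [Algebra A B] [Field K] [Field L] [Algebra A K] [Algebra B L]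
    [IsFractionRing B L] [Algebra K L] [Algebra A L] [IsScalarTower A K L] [IsScalarTower A B L]
    [IsLocalRing A] [IsLocalHom (algebraMap A B)] [CharP L p]
    (hk : ∀ x : ResidueField B, (∀ n : ℕ, ∃ y : ResidueField B, y ^ (p ^ n) = x) ↔
      x ∈ Set.range (algebraMap (ResidueField A) (ResidueField B)))
    (π : A) (hπ : Irreducible (algebraMap A B π)) :
    ∀ (N : ℕ) (f : L) (c : B), f * algebraMap B L (algebraMap A B π) ^ N = algebraMap B L c →
      ∃ (a : K) (S : Finset ℕ) (n : ℕ → ℕ) (s : ℕ → B) (g : L) (b : B),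
        f = algebraMap K L a
            + ∑ i ∈ S, algebraMap B L (s i) ^ p ^ n i / algebraMap B L (algebraMap A B π) ^ i
            + (g ^ p - g) + algebraMap B L b ∧
        ∀ i ∈ S, 0 < i ∧ i ≤ N ∧ (p ∣ i → n i = 0) ∧ ∀ x : ResidueField B, x ^ p ≠ residue B (s i) := by
  haveI := Fact.mk hp
  set P := algebraMap A B π with hPdef
  have hP0 : algebraMap B L P ≠ 0 := (map_ne_zero_iff _ (IsFractionRing.injective B L)).mpr hπ.ne_zero
  intro N
  induction N with
  | zero =>
    intro f c hc
    exact ⟨0, ∅, fun _ => 0, fun _ => 0, 0, c, by simpa [zero_pow hp.pos.ne'] using hc, by simp⟩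
  | succ N ih =>
    intro f c hc
    have hdiv : ∀ d : B, residue B d = 0 → ∃ d', d = P * d' := fun d hd =>
      Ideal.mem_span_singleton.mp (hπ.maximalIdeal_eq ▸ (residue_eq_zero_iff d).mp hd)
    by_cases hr : residue B c ∈ Set.range (algebraMap (ResidueField A) (ResidueField B))
    · obtain ⟨a₀', ha₀⟩ := hr
      obtain ⟨a₀, rfl⟩ := residue_surjective a₀'
      obtain ⟨d, hd⟩ := hdiv (c - algebraMap A B a₀) (by rw [map_sub, ← ha₀]; exact sub_self _)
      obtain ⟨a, S, n, s, g, b, hf, hS⟩ := ih (f - algebraMap A L a₀ / algebraMap A L π ^ (N + 1)) d (by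
        apply mul_right_cancel₀ hP0
        rw [mul_assoc, ← pow_succ, sub_mul, hc, IsScalarTower.algebraMap_apply A B L π, ← hPdef,
          div_mul_cancel₀ _ (pow_ne_zero _ hP0), IsScalarTower.algebraMap_apply A B L, ← map_sub, hd, map_mul]
        ring)
      refine ⟨a + algebraMap A K a₀ / algebraMap A K π ^ (N + 1), S, n, s, g, b, ?_,
        fun i hi => let ⟨h1, h2, h3⟩ := hS i hi; ⟨h1, h2.trans N.le_succ, h3⟩⟩
      rw [map_add, map_div₀, map_pow, ← IsScalarTower.algebraMap_apply A K L,
        ← IsScalarTower.algebraMap_apply A K L]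
      linear_combination hf
    have hnot : ∃ m, ¬ ∃ y : ResidueField B, y ^ p ^ m = residue B c := by
      by_contra h
      push Not at h
      exact hr ((hk _).mp h)
    classical
    set m := Nat.find hnot with hm
    have hm0 : m ≠ 0 := fun h => Nat.find_spec hnot ⟨residue B c, by rw [← hm, h, pow_zero, pow_one]⟩
    obtain ⟨s', hs'⟩ : ∃ y : ResidueField B, y ^ p ^ (m - 1) = residue B c :=
      not_not.mp (Nat.find_min hnot (by omega))
    have hs'p : ∀ x : ResidueField B, x ^ p ≠ s' := fun x hx => Nat.find_spec hnot ⟨x, by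
      rw [← hm, show m = (m - 1) + 1 by omega, pow_succ', pow_mul, hx, hs']⟩
    obtain ⟨s, rfl⟩ := residue_surjective s'
    by_cases hpi : p ∣ N + 1 ∧ m - 1 ≠ 0
    · obtain ⟨⟨e, he⟩, hm1⟩ := hpi
      obtain ⟨x, hx⟩ : ∃ x, x = s ^ p ^ (m - 1 - 1) := ⟨_, rfl⟩
      obtain ⟨d, hd⟩ := hdiv (c - x ^ p) (by
        rw [map_sub, map_pow, hx, map_pow, ← pow_mul, ← pow_succ, Nat.sub_add_cancel (by omega), hs', sub_self])
      have he0 : e ≠ 0 := fun h => by simp [h] at he
      have heN : e ≤ N := by
        have : e < N + 1 := by rw [he]; exact lt_mul_of_one_lt_left (Nat.pos_of_ne_zero he0) hp.one_lt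
        omega
      set y : L := algebraMap B L x / algebraMap B L P ^ e with hy
      obtain ⟨a, S, n, t, g, b, hf, hS⟩ := ih (f - (y ^ p - y)) (d + x * P ^ (N - e)) (by
        apply mul_right_cancel₀ hP0
        have h1 : y ^ p * algebraMap B L P ^ (N + 1) = algebraMap B L x ^ p := by
          rw [hy, div_pow, ← pow_mul, mul_comm e p, ← he, div_mul_cancel₀ _ (pow_ne_zero _ hP0)]
        have h2 : y * algebraMap B L P ^ N = algebraMap B L x * algebraMap B L P ^ (N - e) := by
          rw [hy, ← pow_sub_mul_pow _ heN, mul_comm (algebraMap B L P ^ (N - e)), ← mul_assoc,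
            div_mul_cancel₀ _ (pow_ne_zero _ hP0), mul_comm]
        rw [map_add, map_mul, map_pow]
        have h3 : algebraMap B L c - algebraMap B L x ^ p = algebraMap B L P * algebraMap B L d := by
          rw [← map_pow, ← map_sub, hd, map_mul]
        linear_combination hc - h1 + (algebraMap B L P) * h2 + h3)
      refine ⟨a, S, n, t, g + y, b, ?_, fun i hi => let ⟨h1, h2, h3⟩ := hS i hi; ⟨h1, h2.trans N.le_succ, h3⟩⟩
      rw [add_pow_char]
      linear_combination hf
    obtain ⟨d, hd⟩ := hdiv (c - s ^ p ^ (m - 1)) (by rw [map_sub, map_pow, hs', sub_self])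
    obtain ⟨a, S, n, t, g, b, hf, hS⟩ :=
      ih (f - algebraMap B L s ^ p ^ (m - 1) / algebraMap B L P ^ (N + 1)) d (by
        apply mul_right_cancel₀ hP0
        rw [mul_assoc, ← pow_succ, sub_mul, hc, div_mul_cancel₀ _ (pow_ne_zero _ hP0), ← map_pow, ← map_sub, hd,
          map_mul]
        ring)
    have hnotin : N + 1 ∉ S := fun h => by have := (hS _ h).2.1; omega
    refine ⟨a, insert (N + 1) S, fun i => if i = N + 1 then m - 1 else n i,
      fun i => if i = N + 1 then s else t i, g, b, ?_, fun i hi => ?_⟩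
    · rw [Finset.sum_insert hnotin]
      rw [Finset.sum_congr rfl (g := fun i => algebraMap B L (t i) ^ p ^ n i / algebraMap B L P ^ i) fun i hi => by
        have hne : i ≠ N + 1 := fun h => hnotin (h ▸ hi)
        simp [hne]]
      simp only [if_true]
      linear_combination hf
    · rcases Finset.mem_insert.mp hi with rfl | hi
      · simp only [if_true]
        exact ⟨N.succ_pos, le_rfl, fun h => by by_contra hne; exact hpi ⟨h, hne⟩, hs'p⟩
      · have hne : i ≠ N + 1 := fun h => hnotin (h ▸ hi)
        simp only [if_neg hne]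
        obtain ⟨h1, h2, h3⟩ := hS i hi
        exact ⟨h1, h2.trans N.le_succ, h3⟩

/-- Over a perfect residue field one can make the pole order prime to `p`. -/
theorem exists_reduced {p : ℕ} (hp : p.Prime) {A K : Type u} [CommRing A] [IsDomain A]
    [IsDiscreteValuationRing A] [Field K] [Algebra A K] [IsFractionRing A K] [CharP K p]
    (hperf : ∀ x : ResidueField A, ∃ y, y ^ p = x) {π : A} (hπ : Irreducible π) :
    ∀ (N : ℕ) (f : K) (c : A), f * algebraMap A K π ^ N = algebraMap A K c →
      ∃ h : K, (∃ a : A, algebraMap A K a = f - (h ^ p - h)) ∨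
        ∃ (l : ℕ) (a : Aˣ), 0 < l ∧ ¬ p ∣ l ∧
          (f - (h ^ p - h)) * algebraMap A K π ^ l = algebraMap A K a := by
  haveI := Fact.mk hp
  have hP0 : algebraMap A K π ≠ 0 := (map_ne_zero_iff _ (IsFractionRing.injective A K)).mpr hπ.ne_zero
  intro N
  induction N with
  | zero => intro f c hc; exact ⟨0, Or.inl ⟨c, by simpa [zero_pow hp.pos.ne'] using hc.symm⟩⟩
  | succ N ih =>
    intro f c hc
    by_cases hu : IsUnit c
    swap
    · obtain ⟨d, rfl⟩ := Ideal.mem_span_singleton.mp (hπ.maximalIdeal_eq ▸ (mem_maximalIdeal c).mpr hu)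
      exact ih f d (mul_right_cancel₀ hP0 (by rw [mul_assoc, ← pow_succ, hc, map_mul]; ring))
    by_cases hpi : p ∣ N + 1
    swap
    · exact ⟨0, Or.inr ⟨N + 1, hu.unit, N.succ_pos, hpi, by simpa [zero_pow hp.pos.ne'] using hc⟩⟩
    obtain ⟨e, he⟩ := hpi
    obtain ⟨x', hx'⟩ := hperf (residue A c)
    obtain ⟨x, rfl⟩ := residue_surjective x'
    obtain ⟨d, hd⟩ := Ideal.mem_span_singleton.mp (hπ.maximalIdeal_eq ▸ (residue_eq_zero_iff (c - x ^ p)).mp
      (by rw [map_sub, map_pow, hx', sub_self]))
    have he0 : e ≠ 0 := fun h => by simp [h] at he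
    have heN : e ≤ N := by
      have : e < N + 1 := by rw [he]; exact lt_mul_of_one_lt_left (Nat.pos_of_ne_zero he0) hp.one_lt
      omega
    set y : K := algebraMap A K x / algebraMap A K π ^ e with hy
    have h1 : y ^ p * algebraMap A K π ^ (N + 1) = algebraMap A K x ^ p := by
      rw [hy, div_pow, ← pow_mul, mul_comm e p, ← he, div_mul_cancel₀ _ (pow_ne_zero _ hP0)]
    have h2 : y * algebraMap A K π ^ N = algebraMap A K x * algebraMap A K π ^ (N - e) := by
      rw [hy, ← pow_sub_mul_pow _ heN, mul_comm (algebraMap A K π ^ (N - e)), ← mul_assoc,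
        div_mul_cancel₀ _ (pow_ne_zero _ hP0), mul_comm]
    obtain ⟨h, hh⟩ := ih (f - (y ^ p - y)) (d + x * π ^ (N - e)) (by
      apply mul_right_cancel₀ hP0
      rw [map_add, map_mul, map_pow]
      have h3 : algebraMap A K c - algebraMap A K x ^ p = algebraMap A K π * algebraMap A K d := by
        rw [← map_pow, ← map_sub, hd, map_mul]
      linear_combination hc - h1 + (algebraMap A K π) * h2 + h3)
    refine ⟨h + y, ?_⟩
    rwa [show f - ((h + y) ^ p - (h + y)) = f - (y ^ p - y) - (h ^ p - h) by rw [add_pow_char]; ring]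

end Groth.L19.EtAS
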