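import Groth.Agent.L19.EtAS.Weak
import Groth.Agent.L19.EtAS.NormalForm

/-! # Artin-Schreier steps: from normal forms to weak solutions -/

set_option autoImplicit false
set_option linter.style.haveILetI false

universe u

open IsLocalRing

namespace Groth.L19.EtAS

open EtRam Groth.L19.EtTri

theorem valuation_le_of_comap {F E : Type u} [Field F] [Field E] (f : F →+* E) (W : ValuationSubring E)
    {x y : F} (h : (W.comap f).valuation x ≤ (W.comap f).valuation y) : W.valuation (f x) ≤ W.valuation (f y) := by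
  by_cases hy : y = 0
  · subst hy
    rw [map_zero, le_zero_iff, map_eq_zero] at h
    rw [h]
  · have h1 : x / y ∈ W.comap f := by
      rw [← (W.comap f).valuation_le_one_iff, map_div₀]
      exact (div_le_one₀ (zero_lt_iff.mpr ((map_ne_zero _).mpr hy))).mpr h
    have h2 : W.valuation (f (x / y)) ≤ 1 := (W.valuation_le_one_iff _).mpr h1
    rwa [map_div₀, map_div₀, div_le_one₀
      (zero_lt_iff.mpr ((map_ne_zero _).mpr fun h' => hy ((map_eq_zero _).mp h')))] at h2

theorem comap_valuation_lt_one {F E : Type u} [Field F] [Field E] (f : F →+* E) (W : ValuationSubring E)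
    {x : F} (hx : W.valuation (f x) < 1) : (W.comap f).valuation x < 1 := by
  have hmem : x ∈ W.comap f := (W.valuation_le_one_iff _).mp hx.le
  refine (ValuationSubring.valuation_lt_one_iff _ ⟨x, hmem⟩).mp ((mem_maximalIdeal _).mpr fun hu => ?_)
  exact hx.ne ((W.valuation_eq_one_iff (inclOfComap W f ⟨x, hmem⟩)).mp (hu.map _))

theorem dominates_comap {A F E : Type u} [CommRing A] [IsLocalRing A] [Field F] [Field E] (f : F →+* E)
    (g : A →+* F) (W : ValuationSubring E) (h : Dominates A (f.comp g) W) : Dominates A g (W.comap f) :=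
  ⟨h.1, fun a ha => comap_valuation_lt_one f W (h.2 a ha)⟩

theorem valuation_eq_of_comap {F E : Type u} [Field F] [Field E] (f : F →+* E) (W : ValuationSubring E)
    {x y : F} (h : (W.comap f).valuation x = (W.comap f).valuation y) : W.valuation (f x) = W.valuation (f y) :=
  le_antisymm (valuation_le_of_comap f W h.le) (valuation_le_of_comap f W h.ge)

theorem exists_mul_pow_mem {A K : Type u} [CommRing A] [IsDomain A] [IsDiscreteValuationRing A] [Field K]
    [Algebra A K] [IsFractionRing A K] {π : A} (hπ : Irreducible π) (f : K) :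
    ∃ (N : ℕ) (c : A), f * algebraMap A K π ^ N = algebraMap A K c := by
  obtain ⟨x, y, hy, rfl⟩ := IsFractionRing.div_surjective (A := A) f
  obtain ⟨n, u, rfl⟩ := IsDiscreteValuationRing.eq_unit_mul_pow_irreducible (nonZeroDivisors.ne_zero hy) hπ
  refine ⟨n, x * (↑u⁻¹ : A), ?_⟩
  have hπ0 : algebraMap A K π ≠ 0 := (map_ne_zero_iff _ (IsFractionRing.injective A K)).mpr hπ.ne_zero
  rw [map_mul, map_mul, map_pow, map_units_inv]
  field_simp

theorem isWeakSolution_of_data {p : ℕ} (hp : p.Prime) {A B C K L M : Type u}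
    [CommRing A] [IsDomain A] [IsDiscreteValuationRing A] [CommRing B] [IsDomain B] [IsDiscreteValuationRing B]
    [CommRing C] [IsDomain C] [IsDiscreteValuationRing C]
    [Algebra A B] [Algebra B C] [IsLocalHom (algebraMap A B)] [IsLocalHom (algebraMap B C)]
    [Field K] [Field L] [Field M] [Algebra A K] [IsFractionRing A K] [Algebra B L] [IsFractionRing B L]
    [Algebra C M] [IsFractionRing C M] [Algebra K L] [Algebra L M] [Algebra K M] [IsScalarTower K L M]
    [Algebra A L] [IsScalarTower A K L] [IsScalarTower A B L] [Algebra B M] [IsScalarTower B L M]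
    [IsScalarTower B C M] [CharP L p]
    (hperf : ∀ x : ResidueField A, ∃ y, y ^ p = x)
    {π : A} (hπA : Irreducible π) (hπ : Irreducible (algebraMap A B π))
    (z₀ : M) (hM : IntermediateField.adjoin L {z₀} = ⊤) (f : L) (hz₀ : z₀ ^ p - z₀ = algebraMap L M f)
    (a : K) (S : Finset ℕ) (n : ℕ → ℕ) (s : ℕ → B) (g₀ : L) (b : B)
    (hf : f = algebraMap K L a
      + ∑ i ∈ S, algebraMap B L (s i) ^ p ^ n i / algebraMap B L (algebraMap A B π) ^ i
      + (g₀ ^ p - g₀) + algebraMap B L b)
    (N : ℕ) (hS : ∀ i ∈ S, 0 < i ∧ i ≤ N ∧ (p ∣ i → n i = 0) ∧ ∀ x : ResidueField B, x ^ p ≠ residue B (s i))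
    (k : ℕ) (hk : ∀ i ∈ S, n i < k)
    {K₁ : Type u} [Field K₁] [Algebra K K₁] (T t β h : K₁) (c : ℕ) (hc : 0 < c)
    (hdeg : Module.finrank K K₁ = p ^ k * c)
    (ht : t ^ p ^ k = algebraMap K K₁ (algebraMap A K π) + algebraMap K K₁ (algebraMap A K π) ^ (N + 2) * β)
    (hβ : ∀ V : ValuationSubring K₁, Dominates A ((algebraMap K K₁).comp (algebraMap A K)) V → β ∈ V)
    (hh : ∀ V : ValuationSubring K₁, Dominates A ((algebraMap K K₁).comp (algebraMap A K)) V →
      algebraMap K K₁ a - (h ^ p - h) ∈ V)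
    (hT : ∀ V : ValuationSubring K₁, Dominates A ((algebraMap K K₁).comp (algebraMap A K)) V →
      V.valuation T ^ (p ^ k * c) = V.valuation (algebraMap K K₁ (algebraMap A K π))) :
    IsWeakSolution C K M K₁ := by
  classical
  haveI := Fact.mk hp
  intro E _ _ _ _ _ _ hgen W hW
  letI : Algebra (W.comap (algebraMap K₁ E)) W := (inclOfComap W (algebraMap K₁ E)).toAlgebra
  show IsWeaklyUnramified (W.comap (algebraMap K₁ E)) W
  letI : Algebra L E := ((algebraMap M E).comp (algebraMap L M)).toAlgebra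
  haveI : IsScalarTower L M E := IsScalarTower.of_algebraMap_eq fun _ => rfl
  haveI : IsScalarTower K L E := IsScalarTower.of_algebraMap_eq fun x => by
    rw [IsScalarTower.algebraMap_apply L M E, ← IsScalarTower.algebraMap_apply K L M,
      ← IsScalarTower.algebraMap_apply K M E]
  haveI : CharP E p := charP_of_injective_algebraMap (algebraMap L E).injective p
  set g : B →+* E := (algebraMap L E).comp (algebraMap B L) with hgdef
  have hg : ∀ x, g x = algebraMap M E (algebraMap C M (algebraMap B C x)) := fun x => by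
    rw [← IsScalarTower.algebraMap_apply B C M, IsScalarTower.algebraMap_apply B L M]; rfl
  have hWB : Dominates B g W := by
    refine ⟨fun x => ?_, fun x hx => ?_⟩ <;> rw [hg]
    · exact hW.1 _
    · exact hW.2 _ (map_nonunit _ _ hx)
  set gA : A →+* E := (algebraMap K E).comp (algebraMap A K) with hgAdef
  have hgA : ∀ x : A, g (algebraMap A B x) = gA x := fun x => by
    show algebraMap L E (algebraMap B L (algebraMap A B x)) = algebraMap K E (algebraMap A K x)
    rw [← IsScalarTower.algebraMap_apply A B L, IsScalarTower.algebraMap_apply A K L,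
      ← IsScalarTower.algebraMap_apply K L E]
  have hWA : Dominates A gA W := by
    refine ⟨fun x => ?_, fun x hx => ?_⟩ <;> rw [← hgA]
    · exact hWB.1 _
    · exact hWB.2 _ (map_nonunit _ _ hx)
  have hV : Dominates A ((algebraMap K K₁).comp (algebraMap A K)) (W.comap (algebraMap K₁ E)) :=
    dominates_comap _ _ W (by rwa [← RingHom.comp_assoc, ← IsScalarTower.algebraMap_eq])
  set P : E := gA π with hPdef
  have hK₁ : algebraMap K₁ E (algebraMap K K₁ (algebraMap A K π)) = P := by
    rw [← IsScalarTower.algebraMap_apply]; rfl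
  have he : 0 < p ^ k * c := Nat.mul_pos (pow_pos hp.pos k) hc
  have hTA : W.valuation (algebraMap K₁ E T) ^ (p ^ k * c) = W.valuation P := by
    have h1 := valuation_eq_of_comap (algebraMap K₁ E) W
      (x := T ^ (p ^ k * c)) (y := algebraMap K K₁ (algebraMap A K π)) (by rw [map_pow]; exact hT _ hV)
    rwa [map_pow, map_pow, hK₁] at h1
  have hTB : W.valuation (algebraMap K₁ E T) ^ (p ^ k * c) = W.valuation (g (algebraMap A B π)) := by
    rw [hgA]; exact hTA
  obtain ⟨hτ1, hτ0, -, hresA, -⟩ :=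
    compositum_facts (B := A) (K := K) (L := K) (E := E) hπA he hdeg W hWA T hTA
  obtain ⟨hdvr, ⟨τ₁, hτ₁, hτirr⟩, hres⟩ :=
    compositum_dvr (B := B) (K := K) (L := L) (E := E) hπ he hdeg W hWB T hTB
  set τ := algebraMap K₁ E T with hτdef
  have hP0 : P ≠ 0 := by
    rw [hPdef, hgAdef, RingHom.comp_apply, Ne, map_eq_zero, map_eq_zero_iff _ (IsFractionRing.injective A K)]
    exact hπA.ne_zero
  have hP1 : W.valuation P < 1 := hWA.2 π ((mem_maximalIdeal _).mpr hπA.not_isUnit)
  have hPW : P ∈ W := hWA.1 _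
  set t' := algebraMap K₁ E t with ht'def
  set β' := algebraMap K₁ E β with hβ'
  have hβW : β' ∈ W := hβ _ hV
  set ε : E := 1 + P ^ (N + 1) * β' with hε
  have htε : t' ^ p ^ k = P * ε := by
    rw [ht'def, ← map_pow, ht, map_add, map_mul, map_pow, hK₁, hε, ← hβ']
    ring
  have hsmall : ∀ x : E, x ∈ W → W.valuation (P * x) < 1 := fun x hx => by
    rw [map_mul]
    exact lt_of_le_of_lt (mul_le_of_le_one_right' ((W.valuation_le_one_iff _).mpr hx)) hP1
  have hε1 : W.valuation ε = 1 := by
    refine W.valuation.map_one_add_of_lt ?_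
    rw [pow_succ', mul_assoc]
    exact hsmall _ (mul_mem (pow_mem hPW N) hβW)
  have hε0 : ε ≠ 0 := fun h' => by rw [h', map_zero] at hε1; exact zero_ne_one hε1
  have hεinv : ∀ i : ℕ, (ε ^ i)⁻¹ ∈ W := fun i => by
    rw [← W.valuation_le_one_iff, map_inv₀, map_pow, hε1, one_pow, inv_one]
  have hεk : ∀ i : ℕ, ∃ γ ∈ W, ε ^ i = 1 + P ^ (N + 1) * γ := by
    intro i
    induction i with
    | zero => exact ⟨0, zero_mem _, by simp⟩
    | succ i ih =>
      obtain ⟨γ, hγ, h'⟩ := ih
      refine ⟨γ + β' + P ^ (N + 1) * γ * β',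
        add_mem (add_mem hγ hβW) (mul_mem (mul_mem (pow_mem hPW _) hγ) hβW), ?_⟩
      rw [pow_succ, h', hε]; ring
  choose γ hγW hγ using hεk
  have ht0 : t' ≠ 0 := fun h' => mul_ne_zero hP0 hε0 (by rw [← htε, h', zero_pow (pow_ne_zero k hp.ne_zero)])
  have htv : W.valuation t' = W.valuation τ ^ c := by
    refine (pow_left_inj₀ zero_le' zero_le' (pow_ne_zero k hp.ne_zero)).mp ?_
    rw [← pow_mul, mul_comm c, hTA, ← map_pow, htε, map_mul, hε1, mul_one]
  have ht1 : W.valuation t' < 1 := by rw [htv]; exact pow_lt_one₀ zero_le' hτ1 hc.ne'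
  have htW : t' ∈ W := (W.valuation_le_one_iff _).mp ht1.le
  -- the terms
  let m : ℕ → ℕ := fun i => i * p ^ (k - n i)
  let x : ℕ → E := fun i => g (s i) / t' ^ m i
  let G : ℕ → E := fun i => ∑ j ∈ Finset.range (n i), x i ^ p ^ j
  have hG : ∀ i, G i ^ p - G i = x i ^ p ^ n i - x i := fun i => by
    simp only [G]
    rw [sum_pow_char, ← Finset.sum_sub_distrib,
      Finset.sum_congr rfl (fun j _ => by rw [← pow_mul, ← pow_succ]),
      Finset.sum_range_sub (fun j => x i ^ p ^ j), pow_zero, pow_one]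
  let term : ℕ → E := fun i => g (s i) ^ p ^ n i / P ^ i
  have hterm : ∀ i ∈ S, term i - x i ^ p ^ n i ∈ W := by
    intro i hi
    obtain ⟨-, hiN, -, -⟩ := hS i hi
    have hm : m i * p ^ n i = p ^ k * i := by
      simp only [m]
      rw [mul_assoc, pow_sub_mul_pow p (hk i hi).le, mul_comm]
    have heq : term i - x i ^ p ^ n i = g (s i) ^ p ^ n i * (P ^ (N + 1 - i) * γ i * (ε ^ i)⁻¹) := by
      simp only [term, x]
      rw [div_pow, ← pow_mul t', hm, pow_mul, htε, mul_pow]
      have hP : P ^ (N + 1) = P ^ (N + 1 - i) * P ^ i := (pow_sub_mul_pow P (by omega)).symm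
      have h' := hγ i
      rw [hP] at h'
      field_simp
      linear_combination (g (s i) ^ p ^ n i) * h'
    rw [heq]
    exact mul_mem (pow_mem (hWB.1 _) _) (mul_mem (mul_mem (pow_mem hPW _) (hγW i)) (hεinv i))
  set h' := algebraMap K₁ E h with hh'
  set δ : E := algebraMap L E g₀ + h' + ∑ i ∈ S, G i with hδ
  set R : E := (algebraMap K E a - (h' ^ p - h')) + g b + ∑ i ∈ S, (term i - x i ^ p ^ n i) with hRdef
  have hRW : R ∈ W := by
    refine add_mem (add_mem ?_ (hWB.1 _)) (sum_mem hterm)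
    have := hh _ hV
    change algebraMap K₁ E _ ∈ W at this
    rwa [map_sub, map_sub, map_pow, ← IsScalarTower.algebraMap_apply] at this
  set y : E := algebraMap M E z₀ - δ with hydef
  have hyeq : y ^ p - y = R + ∑ i ∈ S, x i := by
    have hz : algebraMap M E z₀ ^ p - algebraMap M E z₀ = algebraMap L E f := by
      rw [← map_pow, ← map_sub, hz₀, ← IsScalarTower.algebraMap_apply]
    have hfE : algebraMap L E f = algebraMap K E a + ∑ i ∈ S, term i
        + (algebraMap L E g₀ ^ p - algebraMap L E g₀) + g b := by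
      rw [hf, map_add, map_add, map_add, map_sub, map_pow, map_sum, ← IsScalarTower.algebraMap_apply K L E]
      refine congrArg (· + g b) (congrArg (· + (algebraMap L E g₀ ^ p - algebraMap L E g₀))
        (congrArg (algebraMap K E a + ·) ?_))
      refine Finset.sum_congr rfl fun i _ => ?_
      simp only [term, map_div₀, map_pow, hPdef, ← hgA]
      rfl
    have hGs : (∑ i ∈ S, G i) ^ p - ∑ i ∈ S, G i = ∑ i ∈ S, x i ^ p ^ n i - ∑ i ∈ S, x i := by
      rw [sum_pow_char, ← Finset.sum_sub_distrib, ← Finset.sum_sub_distrib]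
      exact Finset.sum_congr rfl fun i _ => hG i
    rw [hydef, hδ, hRdef, sub_pow_char, add_pow_char, add_pow_char, Finset.sum_sub_distrib]
    linear_combination hz + hfE - hGs
  let L₁ := IntermediateField.adjoin L (Set.range (algebraMap K₁ E))
  have hKL : ∀ w : K₁, algebraMap K₁ E w ∈ L₁ := fun w => IntermediateField.subset_adjoin L _ ⟨w, rfl⟩
  have hgL : ∀ w : B, g w ∈ L₁ := fun w => L₁.algebraMap_mem _
  have hxL : ∀ i, x i ∈ L₁ := fun i => div_mem (hgL _) (pow_mem (hKL t) _)
  have hδL : δ ∈ L₁ := add_mem (add_mem (L₁.algebraMap_mem _) (hKL h))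
    (sum_mem fun i _ => sum_mem fun j _ => pow_mem (hxL i) _)
  have hξL : R + ∑ i ∈ S, x i ∈ L₁ := by
    refine add_mem (add_mem (add_mem (sub_mem ?_ (sub_mem (pow_mem (hKL h) _) (hKL h))) (hgL b))
      (sum_mem fun i hi => ?_)) (sum_mem fun i _ => hxL i)
    · rw [IsScalarTower.algebraMap_apply K L E]; exact L₁.algebraMap_mem _
    · refine sub_mem (div_mem (pow_mem (hgL _) _) (pow_mem ?_ _)) (pow_mem (hxL i) _)
      rw [hPdef, ← hgA]; exact hgL _
  have hgenY : IntermediateField.adjoin L₁ ({y} : Set E) = ⊤ := by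
    set F := IntermediateField.adjoin L₁ ({y} : Set E)
    have hLF : ∀ w : E, w ∈ L₁ → w ∈ F := fun w hw => F.algebraMap_mem ⟨w, hw⟩
    have hz : algebraMap M E z₀ ∈ F := by
      rw [show algebraMap M E z₀ = y + δ by rw [hydef]; ring]
      exact add_mem (IntermediateField.mem_adjoin_simple_self _ y) (hLF _ hδL)
    have hMF : ∀ w : M, algebraMap M E w ∈ F := by
      have hle : IntermediateField.adjoin L ({z₀} : Set M) ≤
          (F.restrictScalars L).comap (IsScalarTower.toAlgHom L M E) := by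
        rw [IntermediateField.adjoin_simple_le_iff]; exact hz
      intro w
      exact hle (hM ▸ IntermediateField.mem_top)
    rw [eq_top_iff]
    intro w hwt
    clear hwt
    have hw : w ∈ Algebra.adjoin M (Set.range (algebraMap K₁ E)) := hgen ▸ Algebra.mem_top
    induction hw using Algebra.adjoin_induction with
    | mem z hz => obtain ⟨v, rfl⟩ := hz; exact hLF _ (hKL v)
    | algebraMap v => exact hMF v
    | add _ _ _ _ h1 h2 => exact add_mem h1 h2
    | mul _ _ _ _ h1 h2 => exact mul_mem h1 h2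
  refine weaklyUnramified_of_generator hp W T L₁ hdvr τ₁ hτ₁ hτirr hres y hgenY ⟨_, hξL⟩ hyeq ?_
  rcases S.eq_empty_or_nonempty with hS0 | hSne
  · refine Or.inl ?_
    show R + ∑ i ∈ S, x i ∈ W
    rw [hS0, Finset.sum_empty, add_zero]
    exact hRW
  -- the top term
  obtain ⟨j, hj, hmax⟩ := Finset.exists_max_image S m hSne
  have hdist : ∀ i ∈ S, i ≠ j → m i < m j := by
    intro i hi hne
    refine lt_of_le_of_ne (hmax i hi) fun heq => hne ?_
    have key : ∀ u ∈ S, ∀ v ∈ S, m u = m v → n u ≤ n v → u = v := by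
      intro u hu v hv huv hle
      simp only [m] at huv
      have h2 : u * p ^ (n v - n u) = v := by
        have h3 : p ^ (k - n u) = p ^ (n v - n u) * p ^ (k - n v) := by
          rw [← pow_add]; congr 1
          have := hk v hv
          omega
        rw [h3, ← mul_assoc] at huv
        exact mul_right_cancel₀ (pow_ne_zero _ hp.ne_zero) huv
      rcases Nat.eq_zero_or_pos (n v - n u) with h0 | h0
      · rwa [h0, pow_zero, mul_one] at h2
      · have hdiv : p ∣ v := h2 ▸ Dvd.dvd.mul_left (dvd_pow_self p h0.ne') u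
        have := (hS v hv).2.2.1 hdiv
        omega
    rcases le_total (n i) (n j) with h | h
    · exact key i hi j hj heq h
    · exact (key j hj i hi heq.symm h).symm
  obtain ⟨hj0, -, -, hjres⟩ := hS j hj
  have hmj : 0 < m j := Nat.mul_pos hj0 (pow_pos hp.pos _)
  obtain ⟨d, hd⟩ : p ∣ m j := Dvd.dvd.mul_left (dvd_pow_self p (by have := hk j hj; omega)) j
  -- the leading coefficient
  have hlead : W.valuation ((R + ∑ i ∈ S, x i) * t' ^ m j - g (s j)) < 1 := by
    rw [add_mul, Finset.sum_mul, ← Finset.add_sum_erase _ _ hj,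
      show x j * t' ^ m j = g (s j) from div_mul_cancel₀ _ (pow_ne_zero _ ht0),
      show R * t' ^ m j + (g (s j) + ∑ i ∈ S.erase j, x i * t' ^ m j) - g (s j) =
        R * t' ^ m j + ∑ i ∈ S.erase j, x i * t' ^ m j by ring]
    have hpow : ∀ e : ℕ, 0 < e → ∀ w ∈ W, W.valuation (w * t' ^ e) < 1 := fun e he' w hw => by
      rw [map_mul, map_pow]
      exact lt_of_le_of_lt (mul_le_of_le_one_left' ((W.valuation_le_one_iff _).mpr hw))
        (pow_lt_one₀ zero_le' ht1 he'.ne')
    refine W.valuation.map_add_lt (hpow _ hmj _ hRW) (W.valuation.map_sum_lt one_ne_zero fun i hi => ?_)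
    have hlt := hdist i (Finset.mem_of_mem_erase hi) (Finset.ne_of_mem_erase hi)
    rw [← pow_sub_mul_pow t' hlt.le, mul_comm (t' ^ (m j - m i)), ← mul_assoc,
      show x i * t' ^ m i = g (s i) from div_mul_cancel₀ _ (pow_ne_zero _ ht0)]
    exact hpow _ (by omega) _ (hWB.1 _)
  set u : E := τ ^ c / t' with hudef
  have hu1 : W.valuation u = 1 := by
    rw [hudef, map_div₀, map_pow, ← htv, div_self ((map_ne_zero _).mpr ht0)]
  obtain ⟨a₀, ha₀⟩ := hresA u (Algebra.subset_adjoin ⟨T ^ c / t, by rw [map_div₀, map_pow]⟩) hu1.le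
  change W.valuation (u - gA a₀) < 1 at ha₀
  obtain ⟨α', hα'⟩ := hperf (residue A a₀)
  obtain ⟨α, rfl⟩ := residue_surjective α'
  have hα : W.valuation (u - gA α ^ p) < 1 := by
    have h1 : W.valuation (gA (a₀ - α ^ p)) < 1 :=
      hWA.2 _ ((residue_eq_zero_iff _).mp (by rw [map_sub, map_pow, hα', sub_self]))
    have := W.valuation.map_add_lt ha₀ h1
    rwa [map_sub, map_pow, sub_add_sub_cancel] at this
  have huW : u ∈ W := (W.valuation_le_one_iff _).mp hu1.le
  have hξW : (R + ∑ i ∈ S, x i) * t' ^ m j ∈ W := by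
    have := add_mem ((W.valuation_le_one_iff _).mp hlead.le) (hWB.1 (s j))
    rwa [sub_add_cancel] at this
  have haeq : (R + ∑ i ∈ S, x i) * τ ^ (c * m j) = (R + ∑ i ∈ S, x i) * t' ^ m j * u ^ m j := by
    rw [mul_assoc, ← mul_pow, hudef, mul_div_cancel₀ _ ht0, pow_mul]
  refine Or.inr ⟨c * m j, _, Nat.mul_pos hc hmj, Dvd.intro_left (c * d) (by rw [hd]; ring), haeq,
    mul_mem hξW (pow_mem huW _), fun b₁ hb₁ => ?_⟩
  -- residues
  let ψ : B →+* W := RingHom.codRestrict g W.toSubring hWB.1
  haveI : IsLocalHom ψ := ⟨fun w hw => by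
    by_contra hwu
    have h1 := (ValuationSubring.valuation_eq_one_iff W (ψ w)).mp hw
    exact absurd h1 (hWB.2 w ((mem_maximalIdeal _).mpr hwu)).ne⟩
  have hres_eq : ∀ v w : W, W.valuation ((v : E) - w) < 1 → residue W v = residue W w := fun v w hvw => by
    rw [← sub_eq_zero, ← map_sub, residue_eq_zero_iff, ValuationSubring.valuation_lt_one_iff]
    exact hvw
  have e1 : residue W ⟨_, hξW⟩ = residue W (ψ (s j)) := hres_eq _ _ hlead
  have e2 : residue W ⟨u, huW⟩ = residue W (ψ (algebraMap A B α) ^ p) := hres_eq _ _ (by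
    show W.valuation (u - g (algebraMap A B α) ^ p) < 1
    rw [hgA]; exact hα)
  have e3 : residue W (ψ b₁ ^ p) = residue W (⟨_, hξW⟩ * ⟨u, huW⟩ ^ m j) := hres_eq _ _ hb₁
  rw [map_mul, map_pow, map_pow, e1, e2, map_pow, ← pow_mul, mul_comm p, pow_mul] at e3
  have hα0 : residue B (algebraMap A B α) ≠ 0 := by
    intro h0
    have h1 : residue W ⟨u, huW⟩ = 0 := by
      rw [e2, map_pow, show residue W (ψ (algebraMap A B α)) = ResidueField.map ψ (residue B (algebraMap A B α)) from rfl,
        h0, map_zero, zero_pow hp.ne_zero]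
    rw [residue_eq_zero_iff, ValuationSubring.valuation_lt_one_iff] at h1
    exact h1.ne hu1
  have e4 : residue B b₁ ^ p = residue B (s j) * (residue B (algebraMap A B α) ^ m j) ^ p :=
    (ResidueField.map ψ).injective (by rw [map_mul, map_pow, map_pow, map_pow]; exact e3)
  exact hjres (residue B b₁ / residue B (algebraMap A B α) ^ m j) (by
    rw [div_pow, e4, mul_div_cancel_right₀ _ (pow_ne_zero _ (pow_ne_zero _ hα0))])

end Groth.L19.EtAS
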