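import Groth.Agent.L19.EtAS.Base
import Groth.Agent.L05.PrimeDegree.ArtinSchreier

/-! # Artin-Schreier steps: the weak solution -/

set_option autoImplicit false
set_option linter.style.haveILetI false

universe u

open IsLocalRing

namespace Groth.L19.EtAS

open EtRam Groth.L19.EtTri

/-- An Artin-Schreier generator over `L(K₁)` whose right side is integral, or has a top pole of order
divisible by `p` with coefficient not a `p`-th power, gives a weakly unramified extension. -/
theorem weaklyUnramified_of_generator {p : ℕ} (hp : p.Prime) {B L K₁ E : Type u} [CommRing B]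
    [Field L] [Algebra B L] [Field K₁] [Field E] [Algebra L E] [Algebra K₁ E] [CharP E p]
    (W : ValuationSubring E) (T : K₁) (L₁ : IntermediateField L E)
    (hdvr : IsDiscreteValuationRing
      (W.comap (algebraMap L₁ E)))
    (τ₁ : W.comap (algebraMap L₁ E))
    (hτ : (((τ₁ : L₁)) : E) = algebraMap K₁ E T)
    (hτirr : Irreducible τ₁)
    (hres : ∀ x : W.comap (algebraMap L₁ E),
      ∃ b : B, W.valuation (((x : L₁) : E)
        - algebraMap L E (algebraMap B L b)) < 1)
    (y : E) (hgen : IntermediateField.adjoin L₁ {y} = ⊤)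
    (ξ : L₁) (hy : y ^ p - y = (ξ : E))
    (hcases : (ξ : E) ∈ W ∨ ∃ (n : ℕ) (a : E), 0 < n ∧ p ∣ n ∧
      (ξ : E) * algebraMap K₁ E T ^ n = a ∧ a ∈ W ∧
      ∀ b : B, W.valuation (algebraMap L E (algebraMap B L b) ^ p - a) < 1 → False) :
    (maximalIdeal (W.comap (algebraMap K₁ E))).map (inclOfComap W (algebraMap K₁ E)) = maximalIdeal W := by
  classical
  haveI := hdvr
  haveI : CharP L₁ p := (algebraMap L₁ E).charP (algebraMap L₁ E).injective p
  letI : Algebra (W.comap (algebraMap L₁ E)) E := ((algebraMap L₁ E).comp (algebraMap (W.comap (algebraMap L₁ E)) L₁)).toAlgebra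
  haveI : IsScalarTower (W.comap (algebraMap L₁ E)) L₁ E := IsScalarTower.of_algebraMap_eq fun _ => rfl
  have hdom : Dominates (W.comap (algebraMap L₁ E)) (algebraMap (W.comap (algebraMap L₁ E)) E) W := ⟨fun x => x.2, fun x hx =>
    (ValuationSubring.valuation_lt_one_iff W (inclOfComap W (algebraMap L₁ E) x)).mp
      ((mem_maximalIdeal _).mpr fun h => (mem_maximalIdeal _).mp hx (isUnit_of_map_unit _ _ h))⟩
  -- it suffices to generate by `τ₁`
  suffices hW : (maximalIdeal (W.comap (algebraMap L₁ E))).map (inclOfComap W (algebraMap L₁ E)) = maximalIdeal W by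
    refine le_antisymm (((local_hom_TFAE _).out 0 2).mp (EtRam.isLocalHom_inclOfComap W _)) ?_
    rw [← hW, hτirr.maximalIdeal_eq, Ideal.map_span, Set.image_singleton, Ideal.span_le,
      Set.singleton_subset_iff]
    have hTW : algebraMap K₁ E T ∈ W := hτ ▸ τ₁.2
    have h : inclOfComap W (algebraMap L₁ E) τ₁ = inclOfComap W (algebraMap K₁ E) ⟨T, hTW⟩ := Subtype.ext hτ
    rw [SetLike.mem_coe, h]
    refine Ideal.mem_map_of_mem _ ((mem_maximalIdeal _).mpr fun hu => hτirr.not_isUnit ?_)
    exact isUnit_of_map_unit (inclOfComap W (algebraMap L₁ E)) _ (h ▸ hu.map _)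
  obtain h1 | h2 | h4 : Module.finrank L₁ E = 1 ∨
      (EtRam.IsUnramifiedExt (W.comap (algebraMap L₁ E)) (algebraMap (W.comap (algebraMap L₁ E)) E) ∧ Module.finrank L₁ E = p) ∨
        Groth.L05.PrimeDegree.InsepCase p (W.comap (algebraMap L₁ E)) (algebraMap (W.comap (algebraMap L₁ E)) E) := by
    rcases hcases with hint | ⟨n, a, hn, hpn, han, haW, ha⟩
    · exact (Groth.L05.PrimeDegree.as_integral hp hgen hy ⟨⟨ξ, hint⟩, rfl⟩).imp_right Or.inl
    · let aL : L₁ := ξ * (τ₁ : L₁) ^ n
      have haL : (aL : E) = a := by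
        rw [← han, ← hτ]; rfl
      refine Or.inr (Or.inr (Groth.L05.PrimeDegree.as_insep hp hgen hy hτirr hn hpn
        (a := ⟨aL, show (aL : E) ∈ W from haL ▸ haW⟩) (fun r hr => ?_) rfl))
      obtain ⟨b, hb⟩ := hres r
      refine ha b ?_
      rw [← sub_eq_zero, ← map_pow, ← map_sub, residue_eq_zero_iff] at hr
      have hlt := hdom.2 _ hr
      haveI := Fact.mk hp
      have hb' : W.valuation (algebraMap L E (algebraMap B L b) ^ p - ((r : L₁) : E) ^ p) < 1 := by
        rw [← sub_pow_char, map_pow, ← Valuation.map_sub_swap]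
        exact pow_lt_one₀ zero_le' hb hp.pos.ne'
      rw [show algebraMap (W.comap (algebraMap L₁ E)) E (⟨aL, show (aL : E) ∈ W from haL ▸ haW⟩ - r ^ p) = a - ((r : L₁) : E) ^ p by
        subst haL; rfl] at hlt
      rw [Valuation.map_sub_swap] at hlt
      have h := W.valuation.map_add_lt hb' hlt
      rwa [sub_add_sub_cancel] at h
  · refine le_antisymm (((local_hom_TFAE _).out 0 2).mp (EtRam.isLocalHom_inclOfComap W _)) fun x hx => ?_
    obtain ⟨l, hl⟩ : (x : E) ∈ (⊥ : Subalgebra L₁ E) := by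
      rw [Subalgebra.bot_eq_top_of_finrank_eq_one h1]; exact Algebra.mem_top
    have hlW : l ∈ (W.comap (algebraMap L₁ E)) := show algebraMap L₁ E l ∈ W from hl ▸ x.2
    rw [show x = inclOfComap W (algebraMap L₁ E) ⟨l, hlW⟩ from Subtype.ext hl.symm] at hx ⊢
    exact Ideal.mem_map_of_mem _ ((mem_maximalIdeal _).mpr fun h => (mem_maximalIdeal _).mp hx (h.map _))
  · haveI : IsLocalHom (RingHom.codRestrict (algebraMap (W.comap (algebraMap L₁ E)) E) W.toSubring hdom.1) :=
      EtRam.isLocalHom_inclOfComap W (algebraMap L₁ E)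
    letI : Algebra (W.comap (algebraMap L₁ E)) W := (RingHom.codRestrict (algebraMap (W.comap (algebraMap L₁ E)) E) W.toSubring hdom.1).toAlgebra
    haveI : IsLocalHom (algebraMap (W.comap (algebraMap L₁ E)) W) := EtRam.isLocalHom_inclOfComap W (algebraMap L₁ E)
    exact (h2.1 W hdom).1
  · letI : Algebra (W.comap (algebraMap L₁ E)) W := (RingHom.codRestrict (algebraMap (W.comap (algebraMap L₁ E)) E) W.toSubring hdom.1).toAlgebra
    haveI : IsLocalHom (algebraMap (W.comap (algebraMap L₁ E)) W) := EtRam.isLocalHom_inclOfComap W (algebraMap L₁ E)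
    exact (h4.2.2 W hdom).1

end Groth.L19.EtAS
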